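import Cfsg.Agent.H493.CC.Gen
import Cfsg.Agent.Nodes.Bruhat

/-!
# S4884: the root groups and the torus generate, for the three frames (helper977)

`GG = ⊤` for the root group data of `PSL_{n+1}(F)`, of the Witt models (`PSp`, `PSU`, `PΩ`) and of `PΩ⁺` (type `D`);
`RGD.B ⊔ NN = ⊤` is in `H493.CC.Gen`.
-/

set_option autoImplicit false
set_option linter.unusedSectionVars false

namespace Cfsg.Agent.H977.CC

open Cfsg Cfsg.Agent.ChevalleyStructure.CoxeterGeom Cfsg.Agent.Tits.Roots Cfsg.Agent.Nodes.Reps Cfsg.Agent.Nodes.BNOf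
  Cfsg.Agent.Nodes.RGDLib Cfsg.Agent.Nodes.Bruhat

section Gen

variable {I W Y : Type*} [Fintype I] [DecidableEq I] [Group W] [Group Y] {M : CoxeterMatrix I}
  {cs : CoxeterSystem M W} {A : I → I → ℤ} {h : IsCartan M A} {X : (I → ℤ) → Subgroup Y}

theorem GG_of_G1 (T : Subgroup Y) (hG : G1 cs h X = ⊤) : GG cs h T X = ⊤ := by
  rw [eq_top_iff, ← hG]
  exact le_sup_right

end Gen

section Psl

open Cfsg.Agent.Nodes.RootsA Cfsg.Agent.Nodes.RGDTypeA
open Cfsg.Agent.LieRecognition.BNCox (cA)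

variable {F : Type*} [Field F] {n : ℕ} {W : Type*} [Group W] (cs : CoxeterSystem (cA n) W)
  {A : Fin n → Fin n → ℤ} (h : IsCartan (cA n) A)

/-- `PSL_{n+1}(F)` -/
theorem GG_psl : GG cs h ((T (Fin (n + 1)) F).map (pr n F)) (fun x => (X F x).map (pr n F)) = ⊤ :=
  GG_of_G1 _ (G1_psl_eq_top cs h)

end Psl

section TypeC

open Cfsg.Agent.Nodes.WittAll Cfsg.Agent.TitsThree Cfsg.Agent.TitsThree.Siegel Cfsg.Agent.TitsThree.WittFrame
  Cfsg.Agent.TitsThree.FrameCN Cfsg.Agent.Nodes.TypeC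
open Cfsg.Agent.Nodes

variable {F : Type*} [Field F] {V : Type*} [AddCommGroup V] [Module F V] {H : HForm F V} {n : ℕ}
  {Fr : Frame H (Fin n)} {K : Type*} [Group K] (M : Model Fr K)

/-- a model of a Witt frame -/
theorem GG_C (hn : 0 < n) {W : Type*} [Group W] (cs : CoxeterSystem (CoxeterMatrix.B n) W) :
    GG cs (isCartan n) (WittModel.T M) (WittModel.X M) = ⊤ :=
  GG_of_G1 _ (WittModel.G1_eq_top M hn cs)

end TypeC

section TypeD

open QuadraticMap
open Cfsg.Agent.Nodes.WittAll Cfsg.Agent.Nodes.WittInst Cfsg.Agent.Nodes.WittRoot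
open Cfsg.Agent.Nodes.WittRGD (Tor)
open Cfsg.Agent.Nodes.TypeD
open Cfsg.Agent.TitsThree Cfsg.Agent.TitsThree.Siegel Cfsg.Agent.TitsThree.SiegelGen
  Cfsg.Agent.TitsThree.WittFrame Cfsg.Agent.TitsThree.WBridge Cfsg.Agent.TitsThree.FrameCN
open Cfsg.Agent.LieClassical Cfsg.Agent.LieClassical.OrthCore Cfsg.Agent.LieClassical.OrthTrans
open Cfsg.Agent.LieClassical.OrthSimple Cfsg.Agent.LieClassical.OrthFinite
open Cfsg.Agent.LieClassical.OrthForms
open Cfsg.Agent.TitsThree.KSideO Cfsg.Agent.TitsThree.StdData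

variable {ι : Type} [Fintype ι] [DecidableEq ι] {F : Type*} [Field F] {Q : QuadraticForm F (ι → F)} {n : ℕ}

/-- `PΩ` of a hyperbolic form -/
theorem GG_D (W : WFrame (PO Q) (n + 2)) (hG : Good Q) (h0 : ∀ p : (toFrame W).Adm, p = 1) {G : Type*} [Group G]
    (cs : CoxeterSystem (M n) G) :
    GG cs (isCartan n) (((Tor (toFrame W) (E Q)).subgroupOf (E Q)).map (toPOmega hG)) (XD W (toPOmega hG)) = ⊤ :=
  GG_of_G1 _ (G1D_eq_top W (toPOmega hG) (toPOmega_surjective hG) h0 cs)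

end TypeD

end Cfsg.Agent.H977.CC
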